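import Groth.Agent.Lib.OmegaMono13.Main
import Groth.Agent.Lib.FlatDepth.GenericSmooth
import Groth.Agent.Lib.GeomRedRes4

/-!
The cotangent map of a dominant morphism with geometrically reduced generic fibre is mono.
-/

set_option autoImplicit false
set_option backward.isDefEq.respectTransparency false
set_option backward.isDefEq.respectTransparency.types false
set_option linter.style.haveILetI false

universe u

open CategoryTheory CategoryTheory.Limits AlgebraicGeometry TopologicalSpace Opposite TensorProduct
open Groth.Agent.OmegaMono13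

namespace Groth.Agent.OmegaMono9

theorem injective_mapBaseChange_of_formallySmooth (R B A L K : Type u) [CommRing R] [CommRing B] [CommRing A]
    [Field L] [Field K]
    [Algebra R B] [Algebra R A] [Algebra B A] [IsScalarTower R B A] [Algebra B L] [IsFractionRing B L]
    [Algebra A K] [Algebra L K] [Algebra B K] [Algebra R K] [IsScalarTower B L K] [IsScalarTower B A K]
    [IsScalarTower R B K] [IsScalarTower R A K] [Algebra.FormallySmooth L K]
    (hA : Function.Injective (algebraMap A K)) [Module.Flat B Ω[B⁄R]] :
    Function.Injective (KaehlerDifferential.mapBaseChange R B A) := by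
  letI : Algebra R L := ((algebraMap B L).comp (algebraMap R B)).toAlgebra
  haveI : IsScalarTower R B L := IsScalarTower.of_algebraMap_eq' rfl
  haveI : IsScalarTower R L K := IsScalarTower.of_algebraMap_eq fun r => by
    rw [IsScalarTower.algebraMap_apply R B L, ← IsScalarTower.algebraMap_apply B L K,
      ← IsScalarTower.algebraMap_apply R B K]
  haveI : Algebra.FormallyEtale B L := Algebra.FormallyEtale.of_isLocalization (nonZeroDivisors B)
  let ψ := KaehlerDifferential.mapBaseChange R L K
  have hψ : Function.Injective ψ := by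
    rw [injective_iff_map_eq_zero]
    intro x hx
    obtain ⟨y, rfl⟩ := (Algebra.H1Cotangent.exact_δ_mapBaseChange R L K x).1 hx
    rw [Subsingleton.elim y 0, map_zero]
  let cb := (AlgebraTensorModule.cancelBaseChange B L K K Ω[B⁄R]).symm ≪≫ₗ
    AlgebraTensorModule.congr (LinearEquiv.refl K K) (KaehlerDifferential.tensorKaehlerEquivOfFormallyEtale R B L)
  let i := (IsScalarTower.toAlgHom B A K).toLinearMap
  have hi : Function.Injective (LinearMap.rTensor Ω[B⁄R] i) :=
    Module.Flat.rTensor_preserves_injective_linearMap i hA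
  have key : ∀ z, KaehlerDifferential.map R R A K (KaehlerDifferential.mapBaseChange R B A z) =
      ψ (cb (LinearMap.rTensor Ω[B⁄R] i z)) := by
    intro z
    induction z using TensorProduct.induction_on with
    | zero => simp
    | add z w hz hw => simp only [map_add, hz, hw]
    | tmul a w =>
      rw [KaehlerDifferential.mapBaseChange_tmul, LinearMap.rTensor_tmul, map_smul]
      simp only [ψ, cb, LinearEquiv.trans_apply, AlgebraTensorModule.cancelBaseChange_symm_tmul,
        AlgebraTensorModule.congr_tmul, LinearEquiv.refl_apply, KaehlerDifferential.mapBaseChange_tmul]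
      show a • _ = algebraMap A K a • _
      rw [algebraMap_smul]
      congr 1
      have hs : w ∈ Submodule.span B (Set.range (KaehlerDifferential.D R B)) := by
        rw [KaehlerDifferential.span_range_derivation]; trivial
      induction hs using Submodule.span_induction with
      | mem y hy =>
        obtain ⟨s, rfl⟩ := hy
        rw [KaehlerDifferential.map_D, KaehlerDifferential.map_D,
          KaehlerDifferential.tensorKaehlerEquivOfFormallyEtale_apply, KaehlerDifferential.mapBaseChange_tmul, one_smul,
          KaehlerDifferential.map_D, KaehlerDifferential.map_D, ← IsScalarTower.algebraMap_apply B A K,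
          ← IsScalarTower.algebraMap_apply B L K]
      | zero => simp
      | add y z _ _ hy hz => simp only [map_add, hy, hz, TensorProduct.tmul_add]
      | smul r y _ hy =>
        simp only [map_smul, TensorProduct.tmul_smul]
        rw [← algebraMap_smul A r (KaehlerDifferential.map R R B A y), map_smul, algebraMap_smul, hy]
        rw [← algebraMap_smul L r ((1 : L) ⊗ₜ[B] y), map_smul, map_smul, algebraMap_smul]
  intro x y hxy
  apply hi
  apply cb.injective
  apply hψ
  rw [← key, ← key, hxy]

variable {k : Type u} [Field k] {X Y : Scheme.{u}} {pX : X ⟶ Spec (CommRingCat.of k)}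
  {pY : Y ⟶ Spec (CommRingCat.of k)} {φ : X ⟶ Y}

set_option maxHeartbeats 1000000 in
theorem main (w : φ ≫ pY = pX) [IsIntegral X] [IsIntegral Y] [LocallyOfFiniteType pX] [Smooth pY]
    (hdom : DenseRange φ.base)
    [LocallyOfFiniteType φ]
    (hsep : letI := (φ.residueFieldMap (genericPoint X)).hom.toAlgebra
      Algebra.IsGeometricallyReduced (Y.residueField (φ.base (genericPoint X))) (X.residueField (genericPoint X)))
    {ΩY : Y.Modules} {dY : OmegaSh.Der pY ΩY} (hY : OmegaSh.IsUniversal dY)
    {ΩX : X.Modules} {dX : OmegaSh.Der pX ΩX} (hX : OmegaSh.IsUniversal dX)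
    (c : (Scheme.Modules.pullback φ).obj ΩY ⟶ ΩX) (hc : OmegaSh.IsDiffCompat φ dY dX c) : Mono c := by
  haveI : IsDominant φ := ⟨hdom⟩
  have hgen : φ (genericPoint X) = genericPoint Y :=
    ((genericPoint_spec X).image φ.continuous).eq (by
      rw [Set.image_univ, hdom.closure_range]; exact genericPoint_spec Y)
  have h2 := mono_of_isInj (Omega12.adjMap c) (Omega12.isQCoh_receptacle pY hY)
    (Omega12.isQCoh_receptacle pX hX) ?_
  · rwa [Omega12.adjMap, Equiv.symm_apply_apply] at h2
  intro y
  obtain ⟨U, hU, hyU, -⟩ := exists_isAffineOpen_mem_and_subset (X := Y) (x := φ y) (U := ⊤) trivial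
  obtain ⟨U', hU', hyU', hle⟩ := exists_isAffineOpen_mem_and_subset (X := X) (x := y) (U := φ ⁻¹ᵁ U) hyU
  refine ⟨U, hU, U', hU', hle, hyU', ?_⟩
  haveI : Nonempty U' := ⟨⟨y, hyU'⟩⟩
  have hηX : genericPoint X ∈ U' :=
    ((genericPoint_spec X).mem_open_set_iff U'.2).2 (by simpa using ⟨y, hyU'⟩)
  have hηY : φ (genericPoint X) ∈ U := hle hηX
  let R : Type u := Γ(Spec (CommRingCat.of k), ⊤)
  letI a1 : Algebra R Γ(Y, U) := (pY.appLE ⊤ U le_top).hom.toAlgebra
  letI a2 : Algebra R Γ(X, U') := (pX.appLE ⊤ U' le_top).hom.toAlgebra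
  letI a3 : Algebra Γ(Y, U) Γ(X, U') := (φ.appLE U U' hle).hom.toAlgebra
  haveI : IsScalarTower R Γ(Y, U) Γ(X, U') := IsScalarTower.of_algebraMap_eq' (by
    refine congrArg CommRingCat.Hom.hom (?_ : pX.appLE ⊤ U' le_top = pY.appLE ⊤ U le_top ≫ φ.appLE U U' hle)
    rw [Scheme.Hom.appLE_comp_appLE]
    exact (OmegaSh.appLE_congr_hom w _ _).symm)
  haveI : Algebra.Smooth R Γ(Y, U) :=
    HasRingHomProperty.appLE (P := @Smooth) pY inferInstance ⟨⊤, isAffineOpen_top _⟩ ⟨U, hU⟩ le_top
  letI : Algebra Γ(Y, U) (Y.presheaf.stalk (φ (genericPoint X))) :=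
    (Y.presheaf.germ U _ hηY).hom.toAlgebra
  letI := (isField_stalk (Y := Y) hgen).toField
  haveI := isFractionRing_stalk hgen hU hηY
  letI := (isField_stalk (Y := X) (y := genericPoint X) rfl).toField
  letI : Algebra Γ(X, U') (X.presheaf.stalk (genericPoint X)) := (X.presheaf.germ U' _ hηX).hom.toAlgebra
  haveI := isFractionRing_stalk (Y := X) (y := genericPoint X) rfl hU' hηX
  letI aLK : Algebra (Y.presheaf.stalk (φ (genericPoint X))) (X.presheaf.stalk (genericPoint X)) :=
    (φ.stalkMap (genericPoint X)).hom.toAlgebra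
  letI : Algebra Γ(Y, U) (X.presheaf.stalk (genericPoint X)) :=
    ((algebraMap Γ(X, U') (X.presheaf.stalk (genericPoint X))).comp (algebraMap Γ(Y, U) Γ(X, U'))).toAlgebra
  haveI : IsScalarTower Γ(Y, U) Γ(X, U') (X.presheaf.stalk (genericPoint X)) := IsScalarTower.of_algebraMap_eq' rfl
  haveI : IsScalarTower Γ(Y, U) (Y.presheaf.stalk (φ (genericPoint X))) (X.presheaf.stalk (genericPoint X)) :=
    IsScalarTower.of_algebraMap_eq fun r => by
      show X.presheaf.germ U' _ hηX (φ.appLE U U' hle r) = (φ.stalkMap (genericPoint X)) (Y.presheaf.germ U _ hηY r)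
      rw [Scheme.Hom.germ_stalkMap_apply, Scheme.Hom.appLE, CommRingCat.comp_apply]
      exact TopCat.Presheaf.germ_res_apply X.presheaf (homOfLE hle) _ hηX _
  letI : Algebra R (X.presheaf.stalk (genericPoint X)) :=
    ((algebraMap Γ(X, U') (X.presheaf.stalk (genericPoint X))).comp (algebraMap R Γ(X, U'))).toAlgebra
  haveI : IsScalarTower R Γ(X, U') (X.presheaf.stalk (genericPoint X)) := IsScalarTower.of_algebraMap_eq' rfl
  haveI : IsScalarTower R Γ(Y, U) (X.presheaf.stalk (genericPoint X)) := IsScalarTower.of_algebraMap_eq fun r => by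
    show algebraMap Γ(X, U') (X.presheaf.stalk (genericPoint X)) (algebraMap R Γ(X, U') r) = _
    rw [IsScalarTower.algebraMap_apply R Γ(Y, U) Γ(X, U'), ← IsScalarTower.algebraMap_apply]
  haveI : Algebra.FiniteType Γ(Y, U) Γ(X, U') := by
    haveI : Algebra.FiniteType R Γ(X, U') := pX.finiteType_appLE (isAffineOpen_top _) hU' le_top
    exact Algebra.FiniteType.of_restrictScalars_finiteType R Γ(Y, U) Γ(X, U')
  haveI : Algebra.EssFiniteType Γ(X, U') (X.presheaf.stalk (genericPoint X)) :=
    Algebra.EssFiniteType.of_isLocalization _ (nonZeroDivisors Γ(X, U'))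
  haveI : Algebra.EssFiniteType Γ(Y, U) (X.presheaf.stalk (genericPoint X)) :=
    Algebra.EssFiniteType.comp Γ(Y, U) Γ(X, U') _
  haveI : Algebra.EssFiniteType (Y.presheaf.stalk (φ (genericPoint X))) (X.presheaf.stalk (genericPoint X)) :=
    Algebra.EssFiniteType.of_comp Γ(Y, U) (Y.presheaf.stalk (φ (genericPoint X))) _
  haveI : Algebra.FormallySmooth (Y.presheaf.stalk (φ (genericPoint X))) (X.presheaf.stalk (genericPoint X)) := by
    have bij : ∀ {Z : Scheme.{u}} (z : Z), IsField (Z.presheaf.stalk z) → Function.Bijective (Z.residue z) :=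
      fun z hz => by
        letI := hz.toField
        exact ⟨RingHom.injective _, Scheme.residue_surjective _ z⟩
    let ρ := (φ.residueFieldMap (genericPoint X)).hom
    let eY := RingEquiv.ofBijective (Y.residue (φ (genericPoint X))).hom (bij _ (isField_stalk hgen))
    let eX := RingEquiv.ofBijective (X.residue (genericPoint X)).hom (bij _ (isField_stalk rfl))
    letI := ρ.toAlgebra
    haveI : Algebra.IsGeometricallyReduced (Y.residueField (φ (genericPoint X))) (X.residueField (genericPoint X)) := hsep
    letI : Algebra (Y.presheaf.stalk (φ (genericPoint X))) (X.residueField (genericPoint X)) :=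
      ((algebraMap (Y.residueField (φ (genericPoint X))) (X.residueField (genericPoint X))).comp eY.toRingHom).toAlgebra
    haveI : Algebra.EssFiniteType (Y.presheaf.stalk (φ (genericPoint X))) (X.residueField (genericPoint X)) :=
      Algebra.EssFiniteType.of_surjective (AlgHom.mk eX.toRingHom fun a =>
        congr($(Scheme.residue_residueFieldMap φ (genericPoint X)) a).symm) eX.surjective
    letI : Algebra (Y.presheaf.stalk (φ (genericPoint X))) (Y.residueField (φ (genericPoint X))) := eY.toRingHom.toAlgebra
    haveI : IsScalarTower (Y.presheaf.stalk (φ (genericPoint X))) (Y.residueField (φ (genericPoint X)))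
        (X.residueField (genericPoint X)) := IsScalarTower.of_algebraMap_eq fun _ => rfl
    haveI : Algebra.EssFiniteType (Y.residueField (φ (genericPoint X))) (X.residueField (genericPoint X)) :=
      Algebra.EssFiniteType.of_comp (Y.presheaf.stalk (φ (genericPoint X))) _ _
    haveI : Algebra.FormallySmooth (Y.residueField (φ (genericPoint X))) (X.residueField (genericPoint X)) :=
      FlatDepth.formallySmooth_of_geomReduced _ _
    haveI : Algebra.FormallySmooth (Y.presheaf.stalk (φ (genericPoint X))) (Y.residueField (φ (genericPoint X))) :=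
      RingHom.formallySmooth_algebraMap.1 (RingHom.FormallySmooth.of_bijective eY.bijective)
    haveI : Algebra.FormallySmooth (Y.presheaf.stalk (φ (genericPoint X))) (X.residueField (genericPoint X)) :=
      Algebra.FormallySmooth.comp _ (Y.residueField (φ (genericPoint X))) _
    exact Algebra.FormallySmooth.of_equiv (AlgEquiv.ofRingEquiv
      (R := Y.presheaf.stalk (φ (genericPoint X))) (f := eX) fun a =>
        congr($(Scheme.residue_residueFieldMap φ (genericPoint X)) a).symm).symm
  have hinj := injective_mapBaseChange_of_formallySmooth R Γ(Y, U) Γ(X, U') (Y.presheaf.stalk (φ (genericPoint X)))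
    (X.presheaf.stalk (genericPoint X)) (IsFractionRing.injective _ _)
  unfold IsInj
  letI := PullBC11.baseModule (g := φ) ΩX hle
  haveI : IsScalarTower Γ(Y, U) Γ(X, U') Γ(ΩX, U') := IsScalarTower.of_algebraMap_smul fun _ _ => rfl
  let e := Omega12.sectLinEquiv pY hY hU (isAffineOpen_top _) (le_top : U ≤ pY ⁻¹ᵁ ⊤)
  let e' := Omega12.sectLinEquiv pX hX hU' (isAffineOpen_top _) (le_top : U' ≤ pX ⁻¹ᵁ ⊤)
  have keyE : ∀ x, PullBC11.sect (Omega12.adjMap c) hle (e x) =
      e' (KaehlerDifferential.map R R Γ(Y, U) Γ(X, U') x) := fun x => by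
    have hx : x ∈ Submodule.span Γ(Y, U) (Set.range (KaehlerDifferential.D R Γ(Y, U))) := by
      rw [KaehlerDifferential.span_range_derivation]; trivial
    induction hx using Submodule.span_induction with
    | mem z hz =>
      obtain ⟨s, rfl⟩ := hz
      rw [KaehlerDifferential.map_D]
      erw [Omega12.sectLinEquiv_D, Omega12.sectLinEquiv_D]
      show M1.mres ΩX hle ((Omega12.adjMap c).app U (dY.app U s)) = dX.app U' ((φ.appLE U U' hle) s)
      rw [Omega12.adjMap_d hc]
      exact (dX.d_map (homOfLE hle).op (φ.app U s)).symm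
    | zero => simp
    | add y z _ _ hy hz => simp only [map_add, hy, hz]
    | smul r y _ hy =>
      rw [map_smul, map_smul, map_smul, hy, ← IsScalarTower.algebraMap_smul Γ(X, U') r
        (KaehlerDifferential.map R R Γ(Y, U) Γ(X, U') y), map_smul, algebraMap_smul]
  have h3 : ∀ z, (PullBC11.sect (Omega12.adjMap c) hle).liftBaseChange Γ(X, U')
      (LinearEquiv.baseChange Γ(Y, U) Γ(X, U') _ _ e z) =
      e' (KaehlerDifferential.mapBaseChange R Γ(Y, U) Γ(X, U') z) := fun z => by
    induction z using TensorProduct.induction_on with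
    | zero => simp
    | add z w hz hw => simp only [map_add, hz, hw]
    | tmul a x =>
      rw [KaehlerDifferential.mapBaseChange_tmul, map_smul, ← keyE]
      exact LinearMap.liftBaseChange_tmul _ _ _ _
  intro a b hab
  obtain ⟨a, rfl⟩ := (LinearEquiv.baseChange Γ(Y, U) Γ(X, U') _ _ e).surjective a
  obtain ⟨b, rfl⟩ := (LinearEquiv.baseChange Γ(Y, U) Γ(X, U') _ _ e).surjective b
  rw [h3, h3] at hab
  exact congrArg _ (hinj (e'.injective hab))

theorem geomReduced_generic [IsIntegral X] [IsIntegral Y] (f : X ⟶ Y) [LocallyOfFiniteType f]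
    (hgen : f (genericPoint X) = genericPoint Y)
    (hsep : GeometricallyReduced (pullback.snd f (Y.fromSpecResidueField (genericPoint Y)))) :
    letI := (f.residueFieldMap (genericPoint X)).hom.toAlgebra
    Algebra.IsGeometricallyReduced (Y.residueField (f.base (genericPoint X))) (X.residueField (genericPoint X)) := by
  refine GeomRedRes4.isGeometricallyReduced_residueField f (fun x' hx' _ =>
    hx'.antisymm (genericPoint_specializes x') |>.eq) ?_
  have h : GeometricallyReduced (f.fiberToSpecResidueField (f (genericPoint X))) := by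
    have h2 : ∀ y, y = genericPoint Y → GeometricallyReduced (f.fiberToSpecResidueField y) := by
      rintro y rfl; exact hsep
    exact h2 _ hgen
  intro K iF iA x' _
  letI : Algebra (Y.residueField (f (genericPoint X))) K := iA
  haveI : AlgebraicGeometry.IsReduced (pullback (f.fiberToSpecResidueField (f (genericPoint X)))
      (Spec.map (CommRingCat.ofHom (algebraMap (Y.residueField (f (genericPoint X))) K)))) :=
    h.geometrically_isReduced _ _ _ (IsPullback.of_hasPullback _ _)
  show _root_.IsReduced ((pullback (f.fiberToSpecResidueField (f (genericPoint X)))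
      (Spec.map (CommRingCat.ofHom (algebraMap (Y.residueField (f (genericPoint X))) K)))).presheaf.stalk x')
  infer_instance

end Groth.Agent.OmegaMono9
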